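import Mathlib
import Groth.Prelude.Def_Conn

/-! Elementary identities for induced connections on Hom and tensor products. -/

namespace Groth.Agent.ConnHorizontal

set_option linter.unusedSectionVars false

open TensorProduct

universe v u

variable {A : Type v} {B Ω M M' N : Type u} [CommRing A] [CommRing B] [Algebra A B]
  [AddCommGroup Ω] [Module B Ω] [Module A Ω] [IsScalarTower A B Ω]
  [AddCommGroup M] [Module B M] [Module A M] [IsScalarTower A B M]
  [AddCommGroup M'] [Module B M'] [Module A M'] [IsScalarTower A B M']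
  [AddCommGroup N] [Module B N] [Module A N] [IsScalarTower A B N]

omit [Module A Ω] [IsScalarTower A B Ω] [Module A M] [IsScalarTower A B M] [Module A M']
  [IsScalarTower A B M'] [Module A N] [IsScalarTower A B N] in
theorem map_swapR (h : M ⊗[B] M' →ₗ[B] N) (x : M ⊗[B] Ω) (m' : M') :
    TensorProduct.map h LinearMap.id (Conn.swapR (x ⊗ₜ[B] m')) =
      TensorProduct.map (h ∘ₗ (TensorProduct.mk B M M').flip m') LinearMap.id x := by
  induction x using TensorProduct.induction_on with
  | zero => simp
  | tmul m ω => simp [Conn.swapR_tmul]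
  | add a b ha hb => rw [add_tmul, map_add, map_add, map_add, ha, hb]

omit [Module A Ω] [IsScalarTower A B Ω] [Module A M] [IsScalarTower A B M] [Module A M']
  [IsScalarTower A B M'] [Module A N] [IsScalarTower A B N] in
theorem map_assoc_symm (h : M ⊗[B] M' →ₗ[B] N) (m : M) (y : M' ⊗[B] Ω) :
    TensorProduct.map h LinearMap.id ((TensorProduct.assoc B M M' Ω).symm (m ⊗ₜ[B] y)) =
      TensorProduct.map (h ∘ₗ TensorProduct.mk B M M' m) LinearMap.id y := by
  induction y using TensorProduct.induction_on with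
  | zero => simp
  | tmul m' ω => simp
  | add a b ha hb => rw [tmul_add, map_add, map_add, map_add, ha, hb]

omit [Module A Ω] [IsScalarTower A B Ω] [Module A M] [IsScalarTower A B M] in
theorem map_map_id {P Q : Type u} [AddCommGroup P] [Module B P] [AddCommGroup Q] [Module B Q]
    (g : P →ₗ[B] Q) (f : M →ₗ[B] P) (x : M ⊗[B] Ω) :
    TensorProduct.map g LinearMap.id (TensorProduct.map f LinearMap.id x) =
      TensorProduct.map (g ∘ₗ f) LinearMap.id x := by
  induction x using TensorProduct.induction_on with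
  | zero => simp
  | tmul m ω => simp
  | add a b ha hb => simp only [map_add, ha, hb]

omit [Module A Ω] [IsScalarTower A B Ω] [Module A M] [IsScalarTower A B M] in
theorem rid_map_map {P : Type u} [AddCommGroup P] [Module B P]
    (θ : Ω →ₗ[B] B) (f : M →ₗ[B] P) (x : M ⊗[B] Ω) :
    TensorProduct.rid B P (TensorProduct.map LinearMap.id θ (TensorProduct.map f LinearMap.id x)) =
      f (TensorProduct.rid B M (TensorProduct.map LinearMap.id θ x)) := by
  induction x using TensorProduct.induction_on with
  | zero => simp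
  | tmul m ω => simp
  | add a b ha hb => simp only [map_add, ha, hb]

omit [Module A Ω] [IsScalarTower A B Ω] [Module A M] [IsScalarTower A B M] in
/-- For a free module of forms, an element of `M ⊗ Ω` is zero if its coordinates are. -/
theorem eq_zero_of_coord {κ : Type*} (bΩ : Module.Basis κ B Ω) (x : M ⊗[B] Ω)
    (h : ∀ q, TensorProduct.rid B M (TensorProduct.map LinearMap.id (bΩ.coord q) x) = 0) :
    x = 0 := by
  classical
  have key : ∀ (y : M ⊗[B] Ω) (q : κ),
      TensorProduct.equivFinsuppOfBasisRight bΩ y q =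
        TensorProduct.rid B M (TensorProduct.map LinearMap.id (bΩ.coord q) y) := by
    intro y q
    induction y using TensorProduct.induction_on with
    | zero => simp
    | tmul m ω => simp
    | add a b ha hb => simp only [map_add, Finsupp.add_apply, ha, hb]
  apply (TensorProduct.equivFinsuppOfBasisRight bΩ).injective
  ext q
  rw [key, h q]
  simp

omit [Module A Ω] [IsScalarTower A B Ω] [Module A M] [IsScalarTower A B M] [Module A M']
  [IsScalarTower A B M'] in
/-- Elements of `Hom(M, M') ⊗ Ω` are detected by evaluations. -/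
theorem hom_tensor_ext [Module.Free B Ω] {x y : (M →ₗ[B] M') ⊗[B] Ω}
    (h : ∀ m : M, TensorProduct.map (LinearMap.applyₗ m) LinearMap.id x =
      TensorProduct.map (LinearMap.applyₗ m) LinearMap.id y) : x = y := by
  rw [← sub_eq_zero]
  apply eq_zero_of_coord (Module.Free.chooseBasis B Ω)
  intro q
  ext m
  have e := rid_map_map ((Module.Free.chooseBasis B Ω).coord q)
    (LinearMap.applyₗ (R := B) (M₂ := M') m) (x - y)
  rw [map_sub (TensorProduct.map (LinearMap.applyₗ m) LinearMap.id), h m, sub_self] at e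
  simpa using e.symm

theorem conn_neg_one_pow_smul (δ : Derivation A B Ω) (nabla : M →ₗ[A] M ⊗[B] Ω)
    (hc : Conn.IsConn δ nabla) (k : ℕ) (m : M) :
    nabla (((-1 : B) ^ k) • m) = ((-1 : B) ^ k) • nabla m := by
  rw [hc]
  rcases neg_one_pow_eq_or B k with h | h <;> simp [h]

theorem along_smul (δ : Derivation A B Ω) (nabla : M →ₗ[A] M ⊗[B] Ω) (hc : Conn.IsConn δ nabla)
    (θ : Ω →ₗ[B] B) (b : B) (m : M) :
    Conn.along nabla θ (b • m) = b • Conn.along nabla θ m + θ (δ b) • m := by
  simp only [Conn.along_apply]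
  rw [hc, map_add, map_add, map_smul, map_smul, map_tmul, rid_tmul]
  simp

omit [Module A Ω] [IsScalarTower A B Ω] in
theorem along_homConn (nabla : M →ₗ[A] M ⊗[B] Ω) (nabla' : M' →ₗ[A] M' ⊗[B] Ω)
    (nE : (M →ₗ[B] M') →ₗ[A] (M →ₗ[B] M') ⊗[B] Ω) (hE : Conn.IsHomConn nabla nabla' nE)
    (θ : Ω →ₗ[B] B) (φ : M →ₗ[B] M') (m : M) :
    Conn.along nE θ φ m = Conn.along nabla' θ (φ m) - φ (Conn.along nabla θ m) := by
  have e1 : Conn.along nE θ φ m = TensorProduct.rid B M' (TensorProduct.map LinearMap.id θ
      (TensorProduct.map (LinearMap.applyₗ m) LinearMap.id (nE φ))) := by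
    rw [rid_map_map, Conn.along_apply]
    rfl
  rw [e1, hE φ m, map_sub, map_sub, rid_map_map]
  rfl

/-- Left composition with a horizontal map is horizontal. -/
theorem isHorizontal_llcomp_left [Module.Free B Ω]
    (nabla : M →ₗ[A] M ⊗[B] Ω) (nabla' : M' →ₗ[A] M' ⊗[B] Ω) (nN : N →ₗ[A] N ⊗[B] Ω)
    (nE : (M →ₗ[B] M') →ₗ[A] (M →ₗ[B] M') ⊗[B] Ω) (hE : Conn.IsHomConn nabla nabla' nE)
    (nF : (M →ₗ[B] N) →ₗ[A] (M →ₗ[B] N) ⊗[B] Ω) (hF : Conn.IsHomConn nabla nN nF)
    (ε : M' →ₗ[B] N) (hε : Conn.IsHorizontal nabla' nN ε) :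
    Conn.IsHorizontal nE nF (LinearMap.llcomp B M M' N ε) := by
  intro φ
  apply hom_tensor_ext
  intro m
  rw [hF, map_map_id,
    show (LinearMap.applyₗ m) ∘ₗ (LinearMap.llcomp B M M' N ε) = ε ∘ₗ LinearMap.applyₗ m from rfl,
    ← map_map_id, hE, map_sub, map_map_id]
  show nN (ε (φ m)) - TensorProduct.map (ε ∘ₗ φ) LinearMap.id (nabla m) = _
  rw [hε]

/-- The trace is horizontal. -/
theorem isHorizontal_trace [Module.Finite B M] [Module.Free B M]
    (δ : Derivation A B Ω) (nabla : M →ₗ[A] M ⊗[B] Ω) (hc : Conn.IsConn δ nabla)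
    (nE : (M →ₗ[B] M) →ₗ[A] (M →ₗ[B] M) ⊗[B] Ω) (hE : Conn.IsHomConn nabla nabla nE) :
    Conn.IsHorizontal nE (Conn.triv δ) (LinearMap.trace B M) := by
  classical
  intro φ
  let ι := Module.Free.ChooseBasisIndex B M
  let e : Module.Basis ι B M := Module.Free.chooseBasis B M
  let P : ι → M ⊗[B] Ω →ₗ[B] Ω := fun j =>
    (TensorProduct.lid B Ω).toLinearMap ∘ₗ TensorProduct.map (e.coord j) LinearMap.id
  have htr : ∀ ψ : M →ₗ[B] M, LinearMap.trace B M ψ = ∑ j, e.repr (ψ (e j)) j := by
    intro ψ
    rw [LinearMap.trace_eq_matrix_trace B e]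
    simp [Matrix.trace, LinearMap.toMatrix_apply]
  have h1 : ∀ x : (M →ₗ[B] M) ⊗[B] Ω,
      TensorProduct.lid B Ω (TensorProduct.map (LinearMap.trace B M) LinearMap.id x) =
        ∑ j, P j (TensorProduct.map (LinearMap.applyₗ (e j)) LinearMap.id x) := by
    intro x
    induction x using TensorProduct.induction_on with
    | zero => simp
    | tmul ψ ω => simp [P, htr, Finset.sum_smul]
    | add a b ha hb => simp only [map_add, ha, hb, Finset.sum_add_distrib]
  have h2 : ∀ (j : ι) (x : M ⊗[B] Ω), P j (TensorProduct.map φ LinearMap.id x) =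
      ∑ k, e.repr (φ (e k)) j • P k x := by
    intro j x
    induction x using TensorProduct.induction_on with
    | zero => simp
    | tmul m ω =>
      have hm : φ m = ∑ k, e.repr m k • φ (e k) := by
        conv_lhs => rw [← e.sum_repr m, map_sum]
        simp only [map_smul]
      simp [P, hm, smul_smul, Finset.sum_smul, mul_comm]
    | add a b ha hb => simp only [map_add, ha, hb, smul_add, Finset.sum_add_distrib]
  have h3 : ∀ j : ι, P j (nabla (φ (e j))) =
      (∑ i, e.repr (φ (e j)) i • P j (nabla (e i))) + δ (e.repr (φ (e j)) j) := by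
    intro j
    conv_lhs => rw [← e.sum_repr (φ (e j))]
    rw [map_sum, map_sum]
    simp only [hc _ _, map_add, map_smul, Finset.sum_add_distrib]
    congr 1
    simp [P, Finsupp.single_apply]
  apply (TensorProduct.lid B Ω).injective
  rw [Conn.triv_apply, TensorProduct.lid_tmul, one_smul, h1]
  simp only [hE φ, map_sub, h2, h3, Finset.sum_sub_distrib, Finset.sum_add_distrib]
  rw [Finset.sum_comm (f := fun j k => e.repr (φ (e k)) j • P k (nabla (e j))), htr φ, map_sum]
  abel

end Groth.Agent.ConnHorizontal
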